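import Groth.Agent.SymP31.Chart
import Groth.Agent.Quot84.FlatBC

/-! # Symmetric products of flat (AF) schemes commute with base change -/

set_option autoImplicit false
universe u
open CategoryTheory CategoryTheory.Limits AlgebraicGeometry
open scoped TensorProduct
open Quot84

namespace SymP31

variable {X S S' Y : Scheme.{u}} (f : X ⟶ S) (n : ℕ) (b : S' ⟶ S)
    (c : SymProd.fibPow (pullback.snd f b) n ⟶ SymProd.fibPow f n)
    (hcπ : ∀ i : Fin n, c ≫ WidePullback.π (fun _ => f) i =
      WidePullback.π (fun _ => pullback.snd f b) i ≫ pullback.fst f b)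
    (hcb : c ≫ WidePullback.base (fun _ => f) = WidePullback.base (fun _ => pullback.snd f b) ≫ b)

include hcπ hcb in
theorem c_permHom (σ : Equiv.Perm (Fin n)) :
    SymProd.permHom (pullback.snd f b) n σ ≫ c = c ≫ SymProd.permHom f n σ := by
  apply WidePullback.hom_ext
  · intro i
    simp only [Category.assoc, hcπ, SymProd.permHom_π, SymProd.permHom_π_assoc]
  · simp only [Category.assoc, hcb, SymProd.permHom_base, SymProd.permHom_base_assoc]

include hcπ hcb in
theorem isPullback_fibPow :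
    IsPullback c (WidePullback.base (fun _ : Fin n => pullback.snd f b))
      (WidePullback.base (fun _ : Fin n => f)) b := by
  refine ⟨⟨hcb⟩, ⟨PullbackCone.IsLimit.mk _ (fun s => WidePullback.lift s.snd
    (fun i => pullback.lift (s.fst ≫ WidePullback.π (fun _ : Fin n => f) i) s.snd (by
      rw [Category.assoc, WidePullback.π_arrow]; exact s.condition))
    (fun i => pullback.lift_snd _ _ _)) (fun s => ?_) (fun s => ?_) (fun s m h1 h2 => ?_)⟩⟩
  · apply WidePullback.hom_ext
    · intro i; rw [Category.assoc, hcπ, WidePullback.lift_π_assoc, pullback.lift_fst]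
    · rw [Category.assoc, hcb, WidePullback.lift_base_assoc]; exact s.condition.symm
  · rw [WidePullback.lift_base]
  · apply WidePullback.hom_ext
    · intro i
      rw [WidePullback.lift_π]
      apply pullback.hom_ext
      · rw [pullback.lift_fst, ← h1, Category.assoc, Category.assoc, hcπ]
      · rw [pullback.lift_snd, Category.assoc, WidePullback.π_arrow, h2]
    · rw [WidePullback.lift_base, h2]

variable {f n b c}

theorem isSymProd_baseChange [Flat f] (hAF : SymProd.IsAF f) {q : SymProd.fibPow f n ⟶ Y} {g : Y ⟶ S}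
    (hq : SymProd.IsSymProd f n q g)
    (hcπ : ∀ i : Fin n, c ≫ WidePullback.π (fun _ => f) i =
      WidePullback.π (fun _ => pullback.snd f b) i ≫ pullback.fst f b)
    (hcb : c ≫ WidePullback.base (fun _ => f) = WidePullback.base (fun _ => pullback.snd f b) ≫ b)
    (q' : SymProd.fibPow (pullback.snd f b) n ⟶ pullback g b)
    (hq'₁ : q' ≫ pullback.fst g b = c ≫ q)
    (hq'₂ : q' ≫ pullback.snd g b = WidePullback.base (fun _ => pullback.snd f b)) :
    SymProd.IsSymProd (pullback.snd f b) n q' (pullback.snd g b) := by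
  refine ⟨?_, hq'₂⟩
  have hX := isPullback_fibPow f n b c hcπ hcb
  have hY : IsPullback (pullback.fst g b) (pullback.snd g b) g b := IsPullback.of_hasPullback g b
  have hQ : IsPullback c q' q (pullback.fst g b) := by
    refine IsPullback.of_bot ?_ hq'₁.symm hY
    rw [hq'₂, hq.over]
    exact hX
  have := hq.isQuot.affine
  have haff : IsAffineHom q' := MorphismProperty.of_isPullback (P := @IsAffineHom) hQ hq.isQuot.affine
  have hinv : ∀ σ : ULift.{u} (Equiv.Perm (Fin n)),
      ((SymProd.permActU (pullback.snd f b) n) σ).hom ≫ q' = q' := fun σ => by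
    rw [SymProd.permActU_hom]
    apply pullback.hom_ext
    · rw [Category.assoc, hq'₁, ← Category.assoc, c_permHom f n b c hcπ hcb, Category.assoc]
      exact congrArg (c ≫ ·) (hq.isQuot.inv σ)
    · rw [Category.assoc, hq'₂, SymProd.permHom_base]
  let ι := {i : (S.Opens × X.Opens) × Y.Opens × S'.Opens // IsAffineOpen i.1.1 ∧ IsAffineOpen i.1.2 ∧
    IsAffineOpen i.2.1 ∧ IsAffineOpen i.2.2 ∧ i.1.2 ≤ f ⁻¹ᵁ i.1.1 ∧ i.2.1 ≤ g ⁻¹ᵁ i.1.1 ∧
    i.2.2 ≤ b ⁻¹ᵁ i.1.1 ∧ q ⁻¹ᵁ i.2.1 = box f n i.1.1 i.1.2}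
  suffices key : ∀ i : ι, IsAffineOpen (pullback.fst g b ⁻¹ᵁ i.1.2.1 ⊓ pullback.snd g b ⁻¹ᵁ i.1.2.2) ∧
      Function.Injective (q'.app (pullback.fst g b ⁻¹ᵁ i.1.2.1 ⊓ pullback.snd g b ⁻¹ᵁ i.1.2.2)).hom ∧
      ∀ s, (∀ σ, (pull q' ((SymProd.permActU (pullback.snd f b) n) σ).hom (hinv σ)
          (pullback.fst g b ⁻¹ᵁ i.1.2.1 ⊓ pullback.snd g b ⁻¹ᵁ i.1.2.2)).hom s = s) →
        s ∈ Set.range (q'.app (pullback.fst g b ⁻¹ᵁ i.1.2.1 ⊓ pullback.snd g b ⁻¹ᵁ i.1.2.2)).hom by
    refine isQuot_of_affine_cover q' _ haff hinv _ (fun i : ι => (key i).1) (fun y => ?_)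
      (fun i => (key i).2.1) (fun i => (key i).2.2)
    obtain ⟨V, hV, hyV, -⟩ := exists_isAffineOpen_mem_and_subset
      (x := g (pullback.fst g b y)) (U := ⊤) trivial
    obtain ⟨U, hU, hle, W', hyW, hW', hWV, hWW⟩ := exists_chart hAF hq (pullback.fst g b y) hV hyV
    obtain ⟨V', hV', hyV', hV'le⟩ := exists_isAffineOpen_mem_and_subset
      (x := pullback.snd g b y) (U := b ⁻¹ᵁ V) (by
        show b (pullback.snd g b y) ∈ V
        rw [← Scheme.Hom.comp_apply, ← pullback.condition, Scheme.Hom.comp_apply]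
        exact hyV)
    exact ⟨⟨((V, U), (W', V')), hV, hU, hW', hV', hle, hWV, hV'le, hWW⟩, hyW, hyV'⟩
  rintro ⟨⟨⟨V, U⟩, ⟨W', V'⟩⟩, hV, hU, hW', hV', hle, hWV, hV'le, hWW⟩
  dsimp only at hV hU hW' hV' hle hWV hV'le hWW ⊢
  set W'' := pullback.fst g b ⁻¹ᵁ W' ⊓ pullback.snd g b ⁻¹ᵁ V' with hW''
  let W := box f n V U
  let W₂ := q' ⁻¹ᵁ W''
  have hW₂ : W₂ = c ⁻¹ᵁ W ⊓ WidePullback.base (fun _ : Fin n => pullback.snd f b) ⁻¹ᵁ V' := by
    show q' ⁻¹ᵁ (pullback.fst g b ⁻¹ᵁ W' ⊓ pullback.snd g b ⁻¹ᵁ V') = _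
    rw [Scheme.Hom.preimage_inf, ← Scheme.Hom.comp_preimage, ← Scheme.Hom.comp_preimage, hq'₁, hq'₂,
      Scheme.Hom.comp_preimage, hWW]
  have hWaff : IsAffineOpen W := isAffineOpen_box f n hV hU hle
  have hpY := (isIso_pushoutSection_iff (US := V) (UT := W') (UX := V') (UY := W'') hY.flip hWV hV'le
    (by rw [hW'', inf_comm])).mp
      (isIso_pushoutSection_of_isAffineOpen hY.flip hWV hV'le _ hV hW' hV')
  have hpX := (isIso_pushoutSection_iff (US := V) (UT := W) (UX := V') (UY := W₂) hX.flip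
    (box_le_base f n V U) hV'le (by rw [hW₂, inf_comm])).mp
      (isIso_pushoutSection_of_isAffineOpen hX.flip (box_le_base f n V U) hV'le _ hV hWaff hV')
  have hW''aff : IsAffineOpen W'' := by
    have hp : IsPullback ((pullback.fst g b).resLE W' W'' inf_le_left) ((pullback.snd g b).resLE V' W'' inf_le_right)
        (g.resLE V W' hWV) (b.resLE V V' hV'le) :=
      Scheme.Hom.isPullback_resLE hY hV'le hWV (by rw [hW''])
    have : IsAffine W'.toScheme := hW'
    have : IsAffine V'.toScheme := hV'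
    have : IsAffine V.toScheme := hV
    exact IsAffine.of_isIso hp.isoPullback.hom
  have hWle : W₂ ≤ c ⁻¹ᵁ W := hW₂.le.trans inf_le_left
  have hV'₂ : W₂ ≤ WidePullback.base (fun _ : Fin n => pullback.snd f b) ⁻¹ᵁ V' := hW₂.le.trans inf_le_right
  let := (b.appLE V V' hV'le).hom.toAlgebra
  let := (g.appLE V W' hWV).hom.toAlgebra
  let := ((WidePullback.base (fun _ : Fin n => f)).appLE V W (box_le_base f n V U)).hom.toAlgebra
  let := ((pullback.snd g b).appLE V' W'' inf_le_right).hom.toAlgebra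
  let := ((pullback.fst g b).appLE W' W'' inf_le_left).hom.toAlgebra
  let := ((WidePullback.base (fun _ : Fin n => pullback.snd f b)).appLE V' W₂ hV'₂).hom.toAlgebra
  let := (c.appLE W W₂ hWle).hom.toAlgebra
  let := (b.appLE V V' hV'le ≫ (pullback.snd g b).appLE V' W'' inf_le_right).hom.toAlgebra
  let := (b.appLE V V' hV'le ≫
    (WidePullback.base (fun _ : Fin n => pullback.snd f b)).appLE V' W₂ hV'₂).hom.toAlgebra
  have := IsScalarTower.of_algebraMap_eq' (R := Γ(S, V)) (S := Γ(S', V')) (A := Γ(pullback g b, W'')) rfl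
  have := IsScalarTower.of_algebraMap_eq' (R := Γ(S, V)) (S := Γ(Y, W')) (A := Γ(pullback g b, W''))
    congr($(hpY.w).hom)
  have := IsScalarTower.of_algebraMap_eq' (R := Γ(S, V)) (S := Γ(S', V'))
    (A := Γ(SymProd.fibPow (pullback.snd f b) n, W₂)) rfl
  have := IsScalarTower.of_algebraMap_eq' (R := Γ(S, V)) (S := Γ(SymProd.fibPow f n, W))
    (A := Γ(SymProd.fibPow (pullback.snd f b) n, W₂)) congr($(hpX.w).hom)
  have hY' : Algebra.IsPushout Γ(S, V) Γ(S', V') Γ(Y, W') Γ(pullback g b, W'') :=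
    CommRingCat.isPushout_iff_isPushout.mp hpY
  have hX' : Algebra.IsPushout Γ(S, V) Γ(S', V') Γ(SymProd.fibPow f n, W)
      Γ(SymProd.fibPow (pullback.snd f b) n, W₂) :=
    CommRingCat.isPushout_iff_isPushout.mp hpX
  let qA : Γ(Y, W') →ₗ[Γ(S, V)] Γ(SymProd.fibPow f n, W) :=
    { toFun := (q.appLE W' W hWW.ge).hom
      map_add' := map_add _
      map_smul' := fun r a => by
        rw [Algebra.smul_def, map_mul, RingHom.id_apply, Algebra.smul_def]
        congr 1
        show (q.appLE W' W _).hom ((g.appLE V W' hWV).hom r) =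
          ((WidePullback.base (fun _ : Fin n => f)).appLE V W _).hom r
        rw [appLE_trans, appLE_congr_hom hq.over] }
  let P : Equiv.Perm (Fin n) → Γ(SymProd.fibPow f n, W) →ₗ[Γ(S, V)] Γ(SymProd.fibPow f n, W) := fun σ =>
    { toFun := ((SymProd.permHom f n σ).appLE W W (preimage_permHom_box f n V U σ).ge).hom
      map_add' := map_add _
      map_smul' := fun r a => by
        rw [Algebra.smul_def, map_mul, RingHom.id_apply, Algebra.smul_def]
        congr 1
        show ((SymProd.permHom f n σ).appLE W W _).hom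
            (((WidePullback.base (fun _ : Fin n => f)).appLE V W _).hom r) =
          ((WidePullback.base (fun _ : Fin n => f)).appLE V W _).hom r
        rw [appLE_trans, appLE_congr_hom (SymProd.permHom_base f n σ)] }
  have hflat : (f.appLE V U hle).hom.Flat :=
    HasRingHomProperty.appLE @Flat f inferInstance ⟨V, hV⟩ ⟨U, hU⟩ hle
  obtain ⟨hinj, hsurj⟩ := bc_invariants hq hV hU hle hflat hWV hWW Γ(S', V') qA (fun _ => rfl) P fun _ _ => rfl
  let eY := hY'.out.equiv
  let eX := hX'.out.equiv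
  have heY : ∀ r a, eY (r ⊗ₜ a) = ((pullback.snd g b).appLE V' W'' inf_le_right).hom r *
      ((pullback.fst g b).appLE W' W'' inf_le_left).hom a := fun r a => by
    rw [IsBaseChange.equiv_tmul, Algebra.smul_def]; rfl
  have heX : ∀ r a, eX (r ⊗ₜ a) =
      ((WidePullback.base (fun _ : Fin n => pullback.snd f b)).appLE V' W₂ hV'₂).hom r *
        (c.appLE W W₂ hWle).hom a := fun r a => by
    rw [IsBaseChange.equiv_tmul, Algebra.smul_def]; rfl
  have hA : ∀ w, (q'.app W'').hom (eY w) = eX (qA.lTensor Γ(S', V') w) := by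
    intro w
    induction w with
    | zero => simp only [map_zero]
    | add x y hx hy => simp only [map_add, hx, hy]
    | tmul r a =>
      rw [heY, LinearMap.lTensor_tmul, heX, map_mul]
      rw [← Scheme.Hom.appLE_eq_app]
      show (q'.appLE W'' W₂ le_rfl).hom (((pullback.snd g b).appLE V' W'' _).hom r) *
          (q'.appLE W'' W₂ le_rfl).hom (((pullback.fst g b).appLE W' W'' _).hom a) =
        _ * (c.appLE W W₂ hWle).hom ((q.appLE W' W _).hom a)
      rw [appLE_trans, appLE_trans, appLE_trans, appLE_congr_hom hq'₂, appLE_congr_hom hq'₁]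
  have hP : ∀ σ x, (pull q' ((SymProd.permActU (pullback.snd f b) n) ⟨σ⟩).hom (hinv ⟨σ⟩) W'').hom (eX x) =
      eX ((P σ).lTensor Γ(S', V') x) := by
    intro σ x
    induction x with
    | zero => simp only [map_zero]
    | add x y hx hy => simp only [map_add, hx, hy]
    | tmul r a =>
      rw [heX, LinearMap.lTensor_tmul, heX, map_mul]
      show ((SymProd.permHom (pullback.snd f b) n σ).appLE W₂ W₂ _).hom
          (((WidePullback.base (fun _ : Fin n => pullback.snd f b)).appLE V' W₂ _).hom r) *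
          ((SymProd.permHom (pullback.snd f b) n σ).appLE W₂ W₂ _).hom ((c.appLE W W₂ hWle).hom a) =
        _ * (c.appLE W W₂ hWle).hom (((SymProd.permHom f n σ).appLE W W _).hom a)
      congr 1
      · exact (appLE_trans _ _ _ _ r).trans
          (appLE_congr_hom (SymProd.permHom_base (pullback.snd f b) n σ) _ r)
      · exact (appLE_trans _ _ _ _ a).trans
          ((appLE_congr_hom (c_permHom f n b c hcπ hcb σ) _ a).trans (appLE_trans _ _ _ _ a).symm)
  refine ⟨hW''aff, fun a a' h => ?_, fun s hs => ?_⟩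
  · obtain ⟨w, rfl⟩ := eY.surjective a
    obtain ⟨w', rfl⟩ := eY.surjective a'
    rw [hA, hA] at h
    rw [hinj (eX.injective h)]
  · obtain ⟨x, rfl⟩ := eX.surjective s
    obtain ⟨w, rfl⟩ := hsurj x fun σ => eX.injective ((hP σ x).symm.trans (hs ⟨σ⟩))
    exact ⟨eY w, hA w⟩

end SymP31
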