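import Groth.Agent.PolLaw95.General
import Mathlib

/-! # Symmetric tensors of flat algebras commute with base change -/

set_option linter.unusedSectionVars false
set_option autoImplicit false
universe u
open scoped TensorProduct
open Groth.Agent.PolLaw95

namespace SymP31

variable {A P B K : Type u} [CommRing A] [CommRing P] [Algebra A P] [CommRing B] [Algebra A B]
  [AddCommGroup K] [Module A K] {d : ℕ} {ι : Type u}

/-- Invariant tensors in a free algebra come from symmetric tensors, also after tensoring with a module. -/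
theorem exists_orbitSum (e : Module.Basis ι A P) :
    ∃ s : (⨂[A] _ : Fin d, P) →ₗ[A] SymTen.TS A P d,
      s ∘ₗ (SymTen.TS A P d).val.toLinearMap = LinearMap.id ∧
      ∀ (K : Type u) [AddCommGroup K] [Module A K] (x : K ⊗[A] (⨂[A] _ : Fin d, P)),
        (∀ σ : Equiv.Perm (Fin d),
          (PiTensorProduct.reindex A (fun _ : Fin d => P) σ).toLinearMap.lTensor K x = x) →
        ((SymTen.TS A P d).val.toLinearMap ∘ₗ s).lTensor K x = x := by
  classical
  let E := Basis.piTensorProduct fun _ : Fin d => e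
  let st : Setoid (Fin d → ι) :=
    { r := fun v w => ∃ σ : Equiv.Perm (Fin d), v ∘ ⇑σ = w
      iseqv := ⟨fun v => ⟨1, rfl⟩, fun {v w} ⟨σ, h⟩ => ⟨σ.symm, by subst h; ext i; simp⟩,
        fun {v w z} ⟨σ, h⟩ ⟨τ, h'⟩ => ⟨σ * τ, by subst h; subst h'; rfl⟩⟩ }
  let rep : (Fin d → ι) → (Fin d → ι) := fun v => (Quotient.mk st v).out
  have hrep : ∀ v (σ : Equiv.Perm (Fin d)), rep (v ∘ ⇑σ) = rep v := fun v σ => by
    show (Quotient.mk st (v ∘ ⇑σ)).out = (Quotient.mk st v).out
    rw [Quotient.sound (show st.r (v ∘ ⇑σ) v from ⟨σ.symm, by ext i; simp⟩)]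
  have hrep' : ∀ v, ∃ σ : Equiv.Perm (Fin d), v ∘ ⇑σ = rep v := fun v =>
    Quotient.exact (s := st) (Quotient.out_eq (Quotient.mk st v)).symm
  let orb : (Fin d → ι) → Finset (Fin d → ι) := fun v =>
    Finset.univ.image fun σ : Equiv.Perm (Fin d) => v ∘ ⇑σ
  have hperm : ∀ (σ : Equiv.Perm (Fin d)) v,
      PiTensorProduct.reindex A (fun _ : Fin d => P) σ (E v) = E (v ∘ ⇑σ.symm) := fun σ v => by
    simp [E, Basis.piTensorProduct_apply, PiTensorProduct.reindex_tprod]
  have horb : ∀ v (σ : Equiv.Perm (Fin d)),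
      (orb v).image (fun w => w ∘ ⇑σ) = orb v := fun v σ => by
    ext w
    simp only [orb, Finset.mem_image, Finset.mem_univ, true_and]
    constructor
    · rintro ⟨_, ⟨τ, rfl⟩, rfl⟩; exact ⟨τ * σ, rfl⟩
    · rintro ⟨τ, rfl⟩; exact ⟨v ∘ ⇑(τ * σ⁻¹), ⟨τ * σ⁻¹, rfl⟩, by ext i; simp⟩
  have hsum : ∀ v, (∑ w ∈ orb v, E w) ∈ SymTen.TS A P d := fun v σ => by
    rw [map_sum]
    simp only [hperm]
    conv_rhs => rw [← horb v σ.symm]
    have inj : Set.InjOn (fun w : Fin d → ι => w ∘ ⇑σ.symm) (orb v) := fun a _ b _ h =>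
      funext fun i => by simpa using congrFun h (σ i)
    rw [Finset.sum_image (f := fun w => E w) inj]
  let s : (⨂[A] _ : Fin d, P) →ₗ[A] SymTen.TS A P d :=
    E.constr A fun v => if rep v = v then ⟨_, hsum v⟩ else 0
  have main : ∀ (K : Type u) [AddCommGroup K] [Module A K] (x : K ⊗[A] (⨂[A] _ : Fin d, P)),
      (∀ σ : Equiv.Perm (Fin d),
        (PiTensorProduct.reindex A (fun _ : Fin d => P) σ).toLinearMap.lTensor K x = x) →
      ((SymTen.TS A P d).val.toLinearMap ∘ₗ s).lTensor K x = x := by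
    intro K _ _ x hx
    let Φ := TensorProduct.equivFinsuppOfBasisRight (M := K) E
    set c := Φ x with hc
    have hxc : x = c.sum fun v k => k ⊗ₜ[A] E v := by
      rw [hc, ← TensorProduct.equivFinsuppOfBasisRight_symm_apply]
      exact (Φ.symm_apply_apply x).symm
    have hcinv : ∀ (σ : Equiv.Perm (Fin d)) v, c (v ∘ ⇑σ) = c v := fun σ v => by
      have h : Φ ((PiTensorProduct.reindex A (fun _ : Fin d => P) σ).toLinearMap.lTensor K x) v = c v := by
        rw [hx σ]
      rw [← h, hxc]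
      simp only [Finsupp.sum, map_sum, LinearMap.lTensor_tmul, LinearEquiv.coe_coe, hperm,
        Finsupp.finsetSum_apply, Φ, TensorProduct.equivFinsuppOfBasisRight_apply_tmul,
        Module.Basis.repr_self, Finsupp.mapRange_single, one_smul]
      rw [Finset.sum_eq_single (v ∘ ⇑σ)]
      · rw [show (v ∘ ⇑σ) ∘ ⇑σ.symm = v from funext fun i => by simp, Finsupp.single_eq_same]
      · intro w _ hw
        refine Finsupp.single_eq_of_ne fun h => hw ?_
        rw [h]; funext i; simp
      · intro h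
        rw [Finsupp.notMem_support_iff.mp h]; simp
    have hcrep : ∀ v, c (rep v) = c v := fun v => by
      obtain ⟨σ, hσ⟩ := hrep' v
      rw [← hσ, hcinv]
    have hstar : ∀ v, ((SymTen.TS A P d).val.toLinearMap ∘ₗ s) (E v) =
        if rep v = v then ∑ w ∈ orb v, E w else 0 := fun v => by
      simp only [LinearMap.comp_apply, s, Module.Basis.constr_basis]
      split <;> rfl
    conv_lhs => rw [hxc]
    conv_rhs => rw [hxc]
    simp only [Finsupp.sum, map_sum, LinearMap.lTensor_tmul, hstar, TensorProduct.tmul_ite,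
      TensorProduct.tmul_zero, TensorProduct.tmul_sum]
    rw [← Finset.sum_filter]
    have hmaps : ∀ v ∈ c.support, rep v ∈ c.support.filter (fun v => rep v = v) := fun v hv => by
      refine Finset.mem_filter.mpr ⟨Finsupp.mem_support_iff.mpr ?_, ?_⟩
      · rw [hcrep]; exact Finsupp.mem_support_iff.mp hv
      · obtain ⟨σ, hσ⟩ := hrep' v
        conv_lhs => rw [← hσ, hrep]
    rw [← Finset.sum_fiberwise_of_maps_to hmaps (fun v => c v ⊗ₜ[A] E v)]
    refine Finset.sum_congr rfl fun v hv => ?_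
    obtain ⟨hvs, hv'⟩ := Finset.mem_filter.mp hv
    refine Finset.sum_congr ?_ fun w hw => ?_
    · ext w
      simp only [orb, Finset.mem_image, Finset.mem_univ, true_and, Finset.mem_filter]
      constructor
      · rintro ⟨σ, rfl⟩
        refine ⟨Finsupp.mem_support_iff.mpr ?_, by rw [hrep, hv']⟩
        rw [hcinv]; exact Finsupp.mem_support_iff.mp hvs
      · rintro ⟨-, hw⟩
        obtain ⟨σ, hσ⟩ := hrep' w
        refine ⟨σ⁻¹, ?_⟩
        rw [← hw, ← hσ]; ext i; simp
    · rw [← (Finset.mem_filter.mp hw).2, hcrep]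
  refine ⟨s, LinearMap.ext fun t => Subtype.ext ?_, main⟩
  have h := congrArg (TensorProduct.lid A _)
    (main A ((1 : A) ⊗ₜ[A] (t : ⨂[A] _ : Fin d, P)) fun σ => by
      simp only [LinearMap.lTensor_tmul, LinearEquiv.coe_coe]
      exact congrArg _ (t.2 σ))
  simpa using h

variable (e : Module.Basis ι A P) (π : P →ₐ[A] B) (hπ : Function.Surjective π)

include e hπ in
/-- Finitely many kernel elements are killed by a map preserving the image of finitely many tensors. -/
theorem exists_kill_family [Module.Flat A B] (Ys Ds : Finset (⨂[A] _ : Fin d, P))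
    (hD : ∀ D ∈ Ds, D ∈ slotKer π.toLinearMap) :
    ∃ r : P →ₗ[A] P, (∀ y ∈ Ys, PiTensorProduct.map (fun _ : Fin d => π.toLinearMap)
        (PiTensorProduct.map (fun _ : Fin d => r) y) = PiTensorProduct.map (fun _ : Fin d => π.toLinearMap) y) ∧
      ∀ D ∈ Ds, PiTensorProduct.map (fun _ : Fin d => r) D = 0 := by
  classical
  choose U hU hDU using fun D : Ds => exists_finset_of_mem_span (hD D.1 D.2)
  choose T hT using fun y : Ys => mem_span_tprod (y : ⨂[A] _ : Fin d, P)
  obtain ⟨S, q, hS, hq, hqS, hq0⟩ :=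
    exists_finite_data e (Finset.univ.biUnion T ∪ Finset.univ.biUnion U)
  let K := ((Finset.univ.biUnion U).biUnion fun v => Finset.univ.image v).filter fun k => π k = 0
  obtain ⟨r, hr, hrK⟩ := exists_pure e π hπ S K (fun k hk => (Finset.mem_filter.mp hk).2) fun k hk => by
    obtain ⟨v, hv, hk'⟩ := Finset.mem_biUnion.mp (Finset.mem_filter.mp hk).1
    obtain ⟨i, -, rfl⟩ := Finset.mem_image.mp hk'
    exact hS v (Finset.mem_union_right _ hv) i
  have hπr : π.toLinearMap.comp (r.comp q) = π.toLinearMap.comp q := e.ext fun i => by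
    by_cases hi : i ∈ S
    · simp [hqS i hi, hr i hi]
    · simp [hq0 i hi]
  refine ⟨r.comp q, fun y hy => ?_, fun D hD' => ?_⟩
  · rw [← LinearMap.comp_apply, ← PiTensorProduct.map_comp,
      show (fun _ : Fin d => π.toLinearMap.comp (r.comp q)) = fun _ : Fin d => π.toLinearMap.comp q from
        funext fun _ => hπr,
      PiTensorProduct.map_comp, LinearMap.comp_apply,
      map_eq_self_of_mem_span (fun v hv => hq v (Finset.mem_union_left _
        (Finset.mem_biUnion.mpr ⟨⟨y, hy⟩, Finset.mem_univ _, hv⟩))) (hT ⟨y, hy⟩)]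
  · refine LinearMap.eqOn_span (g := 0) ?_ (hDU ⟨D, hD'⟩)
    rintro _ ⟨v, hv, rfl⟩
    obtain ⟨i, hi⟩ := hU ⟨D, hD'⟩ v hv
    rw [PiTensorProduct.map_tprod, LinearMap.zero_apply]
    refine MultilinearMap.map_coord_zero _ i ?_
    have hvU : v ∈ Finset.univ.biUnion U := Finset.mem_biUnion.mpr ⟨⟨D, hD'⟩, Finset.mem_univ _, hv⟩
    rw [LinearMap.comp_apply, hq v (Finset.mem_union_right _ hvU) i]
    exact hrK _ (Finset.mem_filter.mpr
      ⟨Finset.mem_biUnion.mpr ⟨v, hvU, Finset.mem_image_of_mem _ (Finset.mem_univ i)⟩, hi⟩)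

include hπ in
theorem exists_sum_of_map_eq_zero (x : K ⊗[A] (⨂[A] _ : Fin d, P))
    (hx : (PiTensorProduct.map fun _ : Fin d => π.toLinearMap).lTensor K x = 0) :
    ∃ W : Finset (K × slotKer (ι := Fin d) π.toLinearMap),
      x = ∑ p ∈ W, p.1 ⊗ₜ[A] (p.2 : ⨂[A] _ : Fin d, P) := by
  have hex : Function.Exact (slotKer (ι := Fin d) π.toLinearMap).subtype
      (PiTensorProduct.map fun _ : Fin d => π.toLinearMap) := fun y => by
    rw [Submodule.coe_subtype, Subtype.range_coe]
    refine ⟨mem_slotKer_of_map_eq_zero _ hπ y, fun hy => ?_⟩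
    refine LinearMap.eqOn_span (g := 0) ?_ hy
    rintro _ ⟨v, ⟨i, hi⟩, rfl⟩
    rw [PiTensorProduct.map_tprod, LinearMap.zero_apply]
    exact MultilinearMap.map_coord_zero _ i hi
  obtain ⟨w, rfl⟩ := (lTensor_exact K hex (map_pow_surjective _ hπ) x).mp hx
  obtain ⟨W, rfl⟩ := TensorProduct.exists_finset w
  exact ⟨W, by simp [map_sum]⟩

include e hπ in
/-- Symmetric tensors of a flat algebra commute with base change. -/
theorem bc_TS [Module.Flat A B] :
    Function.Injective ((SymTen.TS A B d).val.toLinearMap.lTensor K) ∧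
      ∀ x : K ⊗[A] (⨂[A] _ : Fin d, B), (∀ σ : Equiv.Perm (Fin d),
          (PiTensorProduct.reindex A (fun _ : Fin d => B) σ).toLinearMap.lTensor K x = x) →
        x ∈ LinearMap.range ((SymTen.TS A B d).val.toLinearMap.lTensor K) := by
  classical
  obtain ⟨s, hs, hsK⟩ := exists_orbitSum (d := d) e
  let πd := PiTensorProduct.map fun _ : Fin d => π.toLinearMap
  let M : SymTen.TS A P d →ₗ[A] SymTen.TS A B d :=
    LinearMap.codRestrict (SymTen.TS A B d).toSubmodule
      (πd.comp (SymTen.TS A P d).val.toLinearMap) fun t => map_mem_TS _ t.2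
  have hM : ∀ t : SymTen.TS A P d, ((M t : SymTen.TS A B d) : ⨂[A] _ : Fin d, B) = πd t := fun _ => rfl
  refine ⟨(injective_iff_map_eq_zero _).mpr fun w hw => ?_, fun x hx => ?_⟩
  · obtain ⟨Z, rfl⟩ := TensorProduct.exists_finset w
    choose y hy using fun p : K × SymTen.TS A B d =>
      map_pow_surjective π.toLinearMap hπ (p.2 : ⨂[A] _ : Fin d, B)
    obtain ⟨W, hW⟩ := exists_sum_of_map_eq_zero π hπ (∑ p ∈ Z, p.1 ⊗ₜ[A] y p) (by
      rw [← hw]; simp only [map_sum, LinearMap.lTensor_tmul, hy]; rfl)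
    let Ds := (W.image fun p => (p.2 : ⨂[A] _ : Fin d, P)) ∪ Z.biUnion fun p => Finset.univ.image
      fun σ : Equiv.Perm (Fin d) => PiTensorProduct.reindex A (fun _ : Fin d => P) σ (y p) - y p
    obtain ⟨r, hr, hr0⟩ := exists_kill_family e π hπ (Z.image y) Ds (fun D hD => by
      simp only [Ds, Finset.mem_union, Finset.mem_image, Finset.mem_biUnion, Finset.mem_univ, true_and] at hD
      rcases hD with ⟨p, -, rfl⟩ | ⟨p, -, σ, rfl⟩
      · exact p.2.2
      · refine mem_slotKer_of_map_eq_zero _ hπ _ ?_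
        rw [map_sub, map_reindex, hy, p.2.2 σ, sub_self])
    let rd := PiTensorProduct.map fun _ : Fin d => r
    have hsym : ∀ p : Z, rd (y p.1) ∈ SymTen.TS A P d := fun p σ => by
      have h := hr0 _ (Finset.mem_union_right _ (Finset.mem_biUnion.mpr
        ⟨p.1, p.2, Finset.mem_image_of_mem _ (Finset.mem_univ σ)⟩))
      rw [map_sub, map_reindex, sub_eq_zero] at h
      exact h
    let y' : Z → SymTen.TS A P d := fun p => ⟨rd (y p.1), hsym p⟩
    have h0 : ∑ p : Z, p.1.1 ⊗ₜ[A] (rd (y p.1)) = 0 := by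
      have h1 := congrArg (rd.lTensor K) hW
      simp only [map_sum, LinearMap.lTensor_tmul] at h1
      rw [Finset.univ_eq_attach, Finset.sum_attach Z fun p => p.1 ⊗ₜ[A] rd (y p), h1]
      refine Finset.sum_eq_zero fun p hp => ?_
      rw [show rd (p.2 : ⨂[A] _ : Fin d, P) = 0 from
        hr0 _ (Finset.mem_union_left _ (Finset.mem_image_of_mem _ hp)), TensorProduct.tmul_zero]
    have hs' : ∀ t : SymTen.TS A P d, s (t : ⨂[A] _ : Fin d, P) = t := fun t => LinearMap.congr_fun hs t
    have h2 := congrArg ((M ∘ₗ s).lTensor K) h0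
    simp only [map_sum, map_zero, LinearMap.lTensor_tmul, LinearMap.comp_apply] at h2
    rw [← h2, Finset.univ_eq_attach, ← Finset.sum_attach Z]
    refine Finset.sum_congr rfl fun p _ => congrArg _ (Subtype.ext ?_)
    rw [show s (rd (y p.1)) = y' p from hs' (y' p), hM]
    exact ((hr _ (Finset.mem_image_of_mem _ p.2)).trans (hy p.1)).symm
  · obtain ⟨y, rfl⟩ := LinearMap.lTensor_surjective K (map_pow_surjective π.toLinearMap hπ (d := d)) x
    obtain ⟨Z, hZ⟩ := TensorProduct.exists_finset y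
    have hker : ∀ σ : Equiv.Perm (Fin d), πd.lTensor K
        ((PiTensorProduct.reindex A (fun _ : Fin d => P) σ).toLinearMap.lTensor K y - y) = 0 := fun σ => by
      have hcomm : πd ∘ₗ (PiTensorProduct.reindex A (fun _ : Fin d => P) σ).toLinearMap =
          (PiTensorProduct.reindex A (fun _ : Fin d => B) σ).toLinearMap ∘ₗ πd :=
        LinearMap.ext fun t => map_reindex _ σ t
      rw [map_sub, ← LinearMap.comp_apply, ← LinearMap.lTensor_comp, hcomm, LinearMap.lTensor_comp,
        LinearMap.comp_apply, hx σ, sub_self]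
    choose W hW using fun σ => exists_sum_of_map_eq_zero π hπ _ (hker σ)
    obtain ⟨r, hr, hr0⟩ := exists_kill_family e π hπ (Z.image Prod.snd)
      (Finset.univ.biUnion fun σ : Equiv.Perm (Fin d) => (W σ).image fun p => (p.2 : ⨂[A] _ : Fin d, P))
      (fun D hD => by
        simp only [Finset.mem_image, Finset.mem_biUnion] at hD
        obtain ⟨σ, -, p, -, rfl⟩ := hD
        exact p.2.2)
    let rd := PiTensorProduct.map fun _ : Fin d => r
    have hinv : ∀ σ : Equiv.Perm (Fin d),
        (PiTensorProduct.reindex A (fun _ : Fin d => P) σ).toLinearMap.lTensor K (rd.lTensor K y) =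
          rd.lTensor K y := fun σ => by
      have hcomm : rd ∘ₗ (PiTensorProduct.reindex A (fun _ : Fin d => P) σ).toLinearMap =
          (PiTensorProduct.reindex A (fun _ : Fin d => P) σ).toLinearMap ∘ₗ rd :=
        LinearMap.ext fun t => map_reindex _ σ t
      rw [← sub_eq_zero, ← LinearMap.comp_apply, ← LinearMap.lTensor_comp, ← hcomm, LinearMap.lTensor_comp,
        LinearMap.comp_apply, ← map_sub, hW σ, map_sum]
      refine Finset.sum_eq_zero fun p hp => ?_
      rw [LinearMap.lTensor_tmul, show rd (p.2 : ⨂[A] _ : Fin d, P) = 0 from hr0 _ (Finset.mem_biUnion.mpr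
        ⟨σ, Finset.mem_univ σ, Finset.mem_image_of_mem _ hp⟩), TensorProduct.tmul_zero]
    refine ⟨(M ∘ₗ s).lTensor K (rd.lTensor K y), ?_⟩
    have hcompM : (SymTen.TS A B d).val.toLinearMap ∘ₗ (M ∘ₗ s) =
        πd ∘ₗ ((SymTen.TS A P d).val.toLinearMap ∘ₗ s) := LinearMap.ext fun t => rfl
    rw [← LinearMap.comp_apply, ← LinearMap.lTensor_comp, hcompM, LinearMap.lTensor_comp,
      LinearMap.comp_apply, hsK K _ hinv, hZ]
    simp only [map_sum, LinearMap.lTensor_tmul]
    exact Finset.sum_congr rfl fun p hp => congrArg _ (hr _ (Finset.mem_image_of_mem _ hp))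

end SymP31
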