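import Groth.Agent.SymP31.Tensor
import Groth.Agent.Quot84.Finiteness
import Groth.Agent.SymP31.TSBC

/-! # Affine charts of symmetric products and their coordinate rings -/

set_option autoImplicit false
universe u
open CategoryTheory CategoryTheory.Limits AlgebraicGeometry
open scoped TensorProduct

namespace SymP31

theorem quot_appLE_injective {X Y : Scheme.{u}} {G : Type u} [Group G] {ρ : G →* Aut X} {p : X ⟶ Y}
    (hp : SGA1.IsQuot ρ p) {W' : Y.Opens} {W : X.Opens} (h : p ⁻¹ᵁ W' = W) :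
    Function.Injective (p.appLE W' W h.ge).hom := by
  subst h; rw [Scheme.Hom.appLE_eq_app]; exact hp.injective W'

theorem mem_range_quot_appLE_iff {X Y : Scheme.{u}} {G : Type u} [Group G] {ρ : G →* Aut X} {p : X ⟶ Y}
    (hp : SGA1.IsQuot ρ p) {W' : Y.Opens} {W : X.Opens} (h : p ⁻¹ᵁ W' = W) (s : Γ(X, W))
    (hst : ∀ g : G, W ≤ (ρ g).hom ⁻¹ᵁ W) :
    s ∈ Set.range (p.appLE W' W h.ge).hom ↔ ∀ g : G, ((ρ g).hom.appLE W W (hst g)).hom s = s := by
  subst h; rw [Scheme.Hom.appLE_eq_app]; exact hp.range_iff W' s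

variable {X S Y : Scheme.{u}} {f : X ⟶ S} {d : ℕ} {q : SymProd.fibPow f d ⟶ Y} {g : Y ⟶ S}

theorem exists_chart (hAF : SymProd.IsAF f) (hq : SymProd.IsSymProd f d q g) (y : Y) {V : S.Opens}
    (hV : IsAffineOpen V) (hy : g y ∈ V) :
    ∃ U : X.Opens, IsAffineOpen U ∧ U ≤ f ⁻¹ᵁ V ∧ ∃ W' : Y.Opens, y ∈ W' ∧ IsAffineOpen W' ∧
      W' ≤ g ⁻¹ᵁ V ∧ q ⁻¹ᵁ W' = box f d V U := by
  obtain ⟨x, rfl⟩ := Quot84.surjective hq.isQuot y
  have hxV : WidePullback.base (fun _ : Fin d => f) x ∈ V := by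
    rwa [← hq.over, Scheme.Hom.comp_apply]
  obtain ⟨U, hU, hle, hx⟩ := exists_box f d hAF x hxV
  have hW := isAffineOpen_box f d hV hU hle
  have hpre : ⇑q ⁻¹' (⇑q '' (box f d V U : Set ↥(SymProd.fibPow f d))) =
      (box f d V U : Set ↥(SymProd.fibPow f d)) := by
    refine (Set.subset_preimage_image _ _).antisymm' ?_
    rintro z ⟨w, hw, e⟩
    obtain ⟨g, rfl⟩ := Quot84.exists_of_base_eq hq.isQuot e
    show w ∈ SymProd.permHom f d g.down ⁻¹ᵁ box f d V U
    rwa [preimage_permHom_box]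
  let W' : Y.Opens := ⟨⇑q '' (box f d V U : Set ↥(SymProd.fibPow f d)),
    (Quot84.isQuotientMap hq.isQuot).isOpen_preimage.mp (hpre.symm ▸ (box f d V U).2)⟩
  have hWW : q ⁻¹ᵁ W' = box f d V U := TopologicalSpace.Opens.ext hpre
  refine ⟨U, hU, hle, W', ⟨x, hx, rfl⟩, ?_, ?_, hWW⟩
  · have : IsAffine (q ⁻¹ᵁ W').toScheme := by rw [hWW]; exact hW
    exact Quot84.isAffine_of_isAffine (Quot84.isQuot_restrict hq.isQuot W')
  · rintro _ ⟨z, hz, rfl⟩
    show g (q z) ∈ V
    rw [← Scheme.Hom.comp_apply, hq.over]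
    exact ((mem_box f d).mp hz).1

/-- The coordinate ring of a chart of the symmetric product is the ring of symmetric tensors. -/
theorem exists_algEquiv_TS (hq : SymProd.IsSymProd f d q g) {V : S.Opens} (hV : IsAffineOpen V)
    {U : X.Opens} (hU : IsAffineOpen U) (hle : U ≤ f ⁻¹ᵁ V) {W' : Y.Opens} (hWV : W' ≤ g ⁻¹ᵁ V)
    (hWW : q ⁻¹ᵁ W' = box f d V U) :
    letI := (f.appLE V U hle).hom.toAlgebra
    letI := (g.appLE V W' hWV).hom.toAlgebra
    Nonempty (Γ(Y, W') ≃ₐ[Γ(S, V)] SymTen.TS Γ(S, V) Γ(X, U) d) := by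
  let := (f.appLE V U hle).hom.toAlgebra
  let := (g.appLE V W' hWV).hom.toAlgebra
  let := ((WidePullback.base (fun _ : Fin d => f)).appLE V (box f d V U) (box_le_base f d V U)).hom.toAlgebra
  obtain ⟨e, -, heq⟩ := exists_algEquiv f d hV hU hle
  let qA : Γ(Y, W') →ₐ[Γ(S, V)] Γ(SymProd.fibPow f d, box f d V U) :=
    { toRingHom := (q.appLE W' (box f d V U) hWW.ge).hom
      commutes' := fun r => by
        show (q.appLE W' (box f d V U) _).hom ((g.appLE V W' hWV).hom r) =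
          ((WidePullback.base (fun _ : Fin d => f)).appLE V (box f d V U) _).hom r
        rw [appLE_trans, appLE_congr_hom hq.over] }
  let κ : Γ(Y, W') →ₐ[Γ(S, V)] ⨂[Γ(S, V)] _ : Fin d, Γ(X, U) := e.symm.toAlgHom.comp qA
  have hκ : Function.Injective κ := e.symm.injective.comp (quot_appLE_injective hq.isQuot hWW)
  have hst : ∀ σ, box f d V U ≤ SymProd.permHom f d σ ⁻¹ᵁ box f d V U := fun σ =>
    (preimage_permHom_box f d V U σ).ge
  have hst' : ∀ σ : ULift.{u} (Equiv.Perm (Fin d)),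
      box f d V U ≤ ((SymProd.permActU f d) σ).hom ⁻¹ᵁ box f d V U := fun σ => hst σ.down
  have hrange : κ.range = SymTen.TS Γ(S, V) Γ(X, U) d := by
    ext t
    rw [SymTen.mem_TS_iff, AlgHom.mem_range]
    have h1 : (∃ x, κ x = t) ↔ e t ∈ Set.range (q.appLE W' (box f d V U) hWW.ge).hom := by
      constructor
      · rintro ⟨x, rfl⟩; exact ⟨x, (e.apply_symm_apply _).symm⟩
      · rintro ⟨x, hx⟩
        refine ⟨x, ?_⟩
        show e.symm ((q.appLE W' (box f d V U) hWW.ge).hom x) = t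
        rw [hx, e.symm_apply_apply]
    rw [h1, mem_range_quot_appLE_iff hq.isQuot hWW _ hst']
    constructor
    · intro h σ
      have := h ⟨σ.symm⟩
      change ((SymProd.permHom f d σ.symm).appLE _ _ (hst σ.symm)).hom (e t) = e t at this
      rw [heq, Equiv.symm_symm, SymTen.perm_apply] at this
      exact e.injective this
    · intro h σ
      show ((SymProd.permHom f d σ.down).appLE _ _ (hst σ.down)).hom (e t) = e t
      rw [heq, SymTen.perm_apply, h]
  exact ⟨(AlgEquiv.ofInjective κ hκ).trans (Subalgebra.equivOfEq _ _ hrange)⟩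

/-- Invariants of a chart of the symmetric product commute with base change when the chart is flat. -/
theorem bc_invariants (hq : SymProd.IsSymProd f d q g) {V : S.Opens} (hV : IsAffineOpen V)
    {U : X.Opens} (hU : IsAffineOpen U) (hle : U ≤ f ⁻¹ᵁ V) (hflat : (f.appLE V U hle).hom.Flat)
    {W' : Y.Opens} (hWV : W' ≤ g ⁻¹ᵁ V) (hWW : q ⁻¹ᵁ W' = box f d V U) :
    letI := (g.appLE V W' hWV).hom.toAlgebra
    letI := ((WidePullback.base (fun _ : Fin d => f)).appLE V (box f d V U) (box_le_base f d V U)).hom.toAlgebra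
    ∀ (K : Type u) [AddCommGroup K] [Module Γ(S, V) K]
      (qA : Γ(Y, W') →ₗ[Γ(S, V)] Γ(SymProd.fibPow f d, box f d V U))
      (_ : ∀ a, qA a = (q.appLE W' (box f d V U) hWW.ge).hom a)
      (P : Equiv.Perm (Fin d) → Γ(SymProd.fibPow f d, box f d V U) →ₗ[Γ(S, V)] Γ(SymProd.fibPow f d, box f d V U))
      (_ : ∀ σ a, P σ a = ((SymProd.permHom f d σ).appLE (box f d V U) (box f d V U)
        (preimage_permHom_box f d V U σ).ge).hom a),
      Function.Injective (qA.lTensor K) ∧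
        ∀ x, (∀ σ, (P σ).lTensor K x = x) → x ∈ LinearMap.range (qA.lTensor K) := by
  let := (f.appLE V U hle).hom.toAlgebra
  let := (g.appLE V W' hWV).hom.toAlgebra
  let := ((WidePullback.base (fun _ : Fin d => f)).appLE V (box f d V U) (box_le_base f d V U)).hom.toAlgebra
  intro K _ _ qA hqA P hP
  have : Module.Flat Γ(S, V) Γ(X, U) := hflat
  obtain ⟨e, -, heq⟩ := exists_algEquiv f d hV hU hle
  obtain ⟨hinj, hsurj⟩ := bc_TS (K := K) (d := d) (MvPolynomial.basisMonomials Γ(X, U) Γ(S, V))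
    (MvPolynomial.aeval id : MvPolynomial Γ(X, U) Γ(S, V) →ₐ[Γ(S, V)] Γ(X, U))
    fun b => ⟨MvPolynomial.X b, MvPolynomial.aeval_X _ _⟩
  let κ : Γ(Y, W') →ₗ[Γ(S, V)] ⨂[Γ(S, V)] _ : Fin d, Γ(X, U) := e.symm.toLinearMap ∘ₗ qA
  have hκinj : Function.Injective κ := e.symm.injective.comp fun a b h =>
    quot_appLE_injective hq.isQuot hWW (by rw [← hqA, ← hqA, h])
  have hst' : ∀ σ : ULift.{u} (Equiv.Perm (Fin d)),
      box f d V U ≤ ((SymProd.permActU f d) σ).hom ⁻¹ᵁ box f d V U := fun σ =>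
    (preimage_permHom_box f d V U σ.down).ge
  have hrange : LinearMap.range κ = (SymTen.TS Γ(S, V) Γ(X, U) d).toSubmodule := by
    ext t
    rw [Subalgebra.mem_toSubmodule, SymTen.mem_TS_iff, LinearMap.mem_range]
    have h1 : (∃ x, κ x = t) ↔ e t ∈ Set.range (q.appLE W' (box f d V U) hWW.ge).hom := by
      constructor
      · rintro ⟨x, rfl⟩; exact ⟨x, by rw [← hqA]; exact (e.apply_symm_apply _).symm⟩
      · rintro ⟨x, hx⟩
        refine ⟨x, ?_⟩
        show e.symm (qA x) = t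
        rw [hqA, hx, e.symm_apply_apply]
    rw [h1, mem_range_quot_appLE_iff hq.isQuot hWW _ hst']
    constructor
    · intro h σ
      have := h ⟨σ.symm⟩
      change ((SymProd.permHom f d σ.symm).appLE _ _ (preimage_permHom_box f d V U σ.symm).ge).hom (e t) = e t
        at this
      rw [heq, Equiv.symm_symm, SymTen.perm_apply] at this
      exact e.injective this
    · intro h σ
      show ((SymProd.permHom f d σ.down).appLE _ _ (preimage_permHom_box f d V U σ.down).ge).hom (e t) = e t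
      rw [heq, SymTen.perm_apply, h]
  let ε : Γ(Y, W') ≃ₗ[Γ(S, V)] SymTen.TS Γ(S, V) Γ(X, U) d :=
    (LinearEquiv.ofInjective κ hκinj).trans (LinearEquiv.ofEq _ _ hrange)
  have hfac : qA = e.toLinearMap ∘ₗ (SymTen.TS Γ(S, V) Γ(X, U) d).val.toLinearMap ∘ₗ ε.toLinearMap :=
    LinearMap.ext fun a => (e.apply_symm_apply (qA a)).symm
  let eK := e.toLinearEquiv.lTensor K
  have hfacK : qA.lTensor K = eK.toLinearMap ∘ₗ
      ((SymTen.TS Γ(S, V) Γ(X, U) d).val.toLinearMap.lTensor K) ∘ₗ (ε.lTensor K).toLinearMap := by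
    rw [hfac, LinearMap.lTensor_comp, LinearMap.lTensor_comp]; rfl
  refine ⟨by rw [hfacK]; exact eK.injective.comp (hinj.comp (ε.lTensor K).injective), fun x hx => ?_⟩
  obtain ⟨w, rfl⟩ := eK.surjective x
  obtain ⟨v, hv⟩ := hsurj w fun σ => eK.injective <| by
    have hcomm : P σ.symm ∘ₗ e.toLinearMap = e.toLinearMap ∘ₗ
        (PiTensorProduct.reindex Γ(S, V) (fun _ : Fin d => Γ(X, U)) σ).toLinearMap :=
      LinearMap.ext fun t => by
        show P σ.symm (e t) = e (PiTensorProduct.reindex Γ(S, V) (fun _ : Fin d => Γ(X, U)) σ t)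
        rw [hP, heq, Equiv.symm_symm, SymTen.perm_apply]
    have h1 := hx σ.symm
    change (P σ.symm).lTensor K (e.toLinearMap.lTensor K w) = e.toLinearMap.lTensor K w at h1
    rw [← LinearMap.comp_apply, ← LinearMap.lTensor_comp, hcomm, LinearMap.lTensor_comp] at h1
    exact h1
  obtain ⟨v', rfl⟩ := (ε.lTensor K).surjective v
  exact ⟨v', by rw [hfacK, ← hv]; rfl⟩

end SymP31
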