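import Groth.Prelude.Def_SymProd
import Mathlib

/-! # Affine charts of fibre powers of schemes satisfying (AF) -/

set_option autoImplicit false
universe u
open CategoryTheory CategoryTheory.Limits AlgebraicGeometry

namespace SymP31

/-- Finitely many points of an affine open lying in an open have a common affine neighbourhood inside it. -/
theorem exists_isAffineOpen_le_mem {X : Scheme.{u}} {U : X.Opens} (hU : IsAffineOpen U)
    (W : X.Opens) (T : Finset X) (hTU : ∀ x ∈ T, x ∈ U) (hTW : ∀ x ∈ T, x ∈ W) :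
    ∃ U' : X.Opens, IsAffineOpen U' ∧ U' ≤ U ∧ U' ≤ W ∧ ∀ x ∈ T, x ∈ U' := by
  classical
  rcases T.eq_empty_or_nonempty with rfl | ⟨x₀, hx₀⟩
  · exact ⟨⊥, isAffineOpen_bot X, bot_le, bot_le, by simp⟩
  have hop : IsOpen (hU.fromSpec ⁻¹' (W : Set X)) := W.2.preimage hU.fromSpec.continuous
  obtain ⟨I, hI⟩ := (PrimeSpectrum.isClosed_iff_zeroLocus_ideal
    (hU.fromSpec ⁻¹' (W : Set X))ᶜ).mp hop.isClosed_compl
  let P : {x // x ∈ T} → Ideal Γ(X, U) := fun x => (hU.primeIdealOf ⟨x.1, hTU _ x.2⟩).asIdeal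
  have hnot : ¬ ((I : Set Γ(X, U)) ⊆ ⋃ x ∈ ((Finset.univ : Finset {x // x ∈ T}) : Set _), (P x : Set Γ(X, U))) := by
    intro h
    obtain ⟨x, -, hx⟩ := (Ideal.subset_union_prime (s := Finset.univ) (f := P) (I := I)
      ⟨x₀, hx₀⟩ ⟨x₀, hx₀⟩ (fun i _ _ _ => (hU.primeIdealOf _).2)).mp h
    have : hU.primeIdealOf ⟨x.1, hTU _ x.2⟩ ∈ PrimeSpectrum.zeroLocus (I : Set Γ(X, U)) := hx
    rw [← hI] at this
    apply this
    show hU.fromSpec _ ∈ W
    rw [hU.fromSpec_primeIdealOf]
    exact hTW _ x.2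
  obtain ⟨g, hgI, hg⟩ := Set.not_subset.mp hnot
  refine ⟨X.basicOpen g, hU.basicOpen g, X.basicOpen_le g, ?_, fun x hx => ?_⟩
  · intro z hz
    have hzU : z ∈ U := X.basicOpen_le g hz
    by_contra hzW
    have hmem : hU.primeIdealOf ⟨z, hzU⟩ ∈ (hU.fromSpec ⁻¹' (W : Set X))ᶜ := by
      show ¬ (hU.fromSpec _ ∈ W)
      rwa [hU.fromSpec_primeIdealOf]
    have hmem' := (Set.ext_iff.mp hI _).mp hmem
    have e : hU.fromSpec (hU.primeIdealOf ⟨z, hzU⟩) = z := hU.fromSpec_primeIdealOf _
    have h2 : hU.primeIdealOf ⟨z, hzU⟩ ∈ hU.fromSpec ⁻¹ᵁ X.basicOpen g :=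
      show hU.fromSpec (hU.primeIdealOf ⟨z, hzU⟩) ∈ X.basicOpen g from e.symm ▸ hz
    rw [hU.fromSpec_preimage_basicOpen] at h2
    exact h2 (hmem' hgI)
  · have hnotmem : g ∉ P ⟨x, hx⟩ := fun h =>
      hg (Set.mem_iUnion₂.mpr ⟨⟨x, hx⟩, Finset.mem_coe.mpr (Finset.mem_univ _), h⟩)
    have h3 : hU.primeIdealOf ⟨x, hTU _ hx⟩ ∈ hU.fromSpec ⁻¹ᵁ X.basicOpen g := by
      rw [hU.fromSpec_preimage_basicOpen]
      exact hnotmem
    have e : hU.fromSpec (hU.primeIdealOf ⟨x, hTU _ hx⟩) = x := hU.fromSpec_primeIdealOf _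
    exact e ▸ h3

variable {X S : Scheme.{u}} (f : X ⟶ S) (d : ℕ)

theorem base_apply (i : Fin d) (z : SymProd.fibPow f d) :
    f (WidePullback.π (fun _ : Fin d => f) i z) = WidePullback.base (fun _ : Fin d => f) z := by
  rw [← Scheme.Hom.comp_apply, WidePullback.π_arrow]

theorem π_permHom (σ : Equiv.Perm (Fin d)) (i : Fin d) (z : SymProd.fibPow f d) :
    WidePullback.π (fun _ : Fin d => f) i (SymProd.permHom f d σ z) =
      WidePullback.π (fun _ : Fin d => f) (σ.symm i) z := by
  rw [← Scheme.Hom.comp_apply, SymProd.permHom_π]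

theorem base_permHom (σ : Equiv.Perm (Fin d)) (z : SymProd.fibPow f d) :
    WidePullback.base (fun _ : Fin d => f) (SymProd.permHom f d σ z) =
      WidePullback.base (fun _ : Fin d => f) z := by
  rw [← Scheme.Hom.comp_apply, SymProd.permHom_base]

/-- The fibre power of an open `U` over an open `V`, as an open of the fibre power. -/
noncomputable def box (V : S.Opens) (U : X.Opens) : (SymProd.fibPow f d).Opens :=
  (WidePullback.base (fun _ : Fin d => f) ⁻¹ᵁ V) ⊓
    ⨅ i : Fin d, WidePullback.π (fun _ : Fin d => f) i ⁻¹ᵁ U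

theorem mem_box {V : S.Opens} {U : X.Opens} {z : SymProd.fibPow f d} :
    z ∈ box f d V U ↔ WidePullback.base (fun _ : Fin d => f) z ∈ V ∧
      ∀ i, WidePullback.π (fun _ : Fin d => f) i z ∈ U := by
  rw [box, TopologicalSpace.Opens.mem_inf, ← SetLike.mem_coe (p := ⨅ i, _),
    TopologicalSpace.Opens.coe_iInf, Set.mem_iInter]
  rfl

theorem preimage_permHom_box (V : S.Opens) (U : X.Opens) (σ : Equiv.Perm (Fin d)) :
    SymProd.permHom f d σ ⁻¹ᵁ box f d V U = box f d V U := by
  ext z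
  show SymProd.permHom f d σ z ∈ box f d V U ↔ z ∈ box f d V U
  simp only [mem_box, base_permHom, π_permHom]
  exact and_congr_right' ⟨fun h i => by simpa using h (σ i), fun h i => h _⟩

theorem isAffineOpen_box {V : S.Opens} (hV : IsAffineOpen V) {U : X.Opens} (hU : IsAffineOpen U)
    (hle : U ≤ f ⁻¹ᵁ V) : IsAffineOpen (box f d V U) := by
  have : IsAffine U.toScheme := hU
  have : IsAffine V.toScheme := hV
  let r : U.toScheme ⟶ V.toScheme := f.resLE V U hle
  have : IsAffine (widePullback V.toScheme (fun _ : Fin d => U.toScheme) (fun _ => r)) := by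
    have : ∀ j, IsAffine ((WidePullbackShape.wideCospan V.toScheme (fun _ : Fin d => U.toScheme)
      (fun _ => r)).obj j) := by
      rintro (_ | j) <;> assumption
    exact Scheme.isAffine_of_isLimit _ (limit.isLimit _)
  let j : widePullback V.toScheme (fun _ : Fin d => U.toScheme) (fun _ => r) ⟶ SymProd.fibPow f d :=
    WidePullback.lift (WidePullback.base _ ≫ V.ι) (fun i => WidePullback.π _ i ≫ U.ι) (fun i => by
      rw [Category.assoc, ← Scheme.Hom.resLE_comp_ι f hle, ← Category.assoc]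
      exact congrArg (· ≫ V.ι) (WidePullback.π_arrow (fun _ : Fin d => r) i))
  have hj : Set.range j ⊆ box f d V U := by
    rintro _ ⟨p, rfl⟩
    rw [SetLike.mem_coe, mem_box]
    refine ⟨?_, fun i => ?_⟩
    · rw [← Scheme.Hom.comp_apply, WidePullback.lift_base, Scheme.Hom.comp_apply]
      exact (WidePullback.base (fun _ : Fin d => r) p).2
    · rw [← Scheme.Hom.comp_apply, WidePullback.lift_π, Scheme.Hom.comp_apply]
      exact (WidePullback.π (fun _ : Fin d => r) i p).2
  let a := IsOpenImmersion.lift (box f d V U).ι j (by rwa [Scheme.Opens.range_ι])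
  have hb0 : Set.range ((box f d V U).ι ≫ WidePullback.base (fun _ : Fin d => f)) ⊆ Set.range V.ι := by
    rintro _ ⟨p, rfl⟩
    rw [Scheme.Opens.range_ι, Scheme.Hom.comp_apply]
    exact ((mem_box f d).mp p.2).1
  have hb1 : ∀ i, Set.range ((box f d V U).ι ≫ WidePullback.π (fun _ : Fin d => f) i) ⊆ Set.range U.ι := by
    rintro i _ ⟨p, rfl⟩
    rw [Scheme.Opens.range_ι, Scheme.Hom.comp_apply]
    exact ((mem_box f d).mp p.2).2 i
  let b : (box f d V U).toScheme ⟶ widePullback V.toScheme (fun _ : Fin d => U.toScheme) (fun _ => r) :=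
    WidePullback.lift (IsOpenImmersion.lift V.ι _ hb0) (fun i => IsOpenImmersion.lift U.ι _ (hb1 i))
      (fun i => by
        rw [← cancel_mono V.ι, Category.assoc, Scheme.Hom.resLE_comp_ι, IsOpenImmersion.lift_fac_assoc,
          IsOpenImmersion.lift_fac, Category.assoc, WidePullback.π_arrow])
  have ha : a ≫ (box f d V U).ι = j := IsOpenImmersion.lift_fac _ _ _
  have hab : a ≫ b = 𝟙 _ := by
    apply WidePullback.hom_ext
    · intro i
      rw [Category.assoc, WidePullback.lift_π, ← cancel_mono U.ι, Category.assoc,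
        IsOpenImmersion.lift_fac, Category.id_comp, ← Category.assoc, ha, WidePullback.lift_π]
    · rw [Category.assoc, WidePullback.lift_base, ← cancel_mono V.ι, Category.assoc,
        IsOpenImmersion.lift_fac, Category.id_comp, ← Category.assoc, ha, WidePullback.lift_base]
  have hba : b ≫ a = 𝟙 _ := by
    rw [← cancel_mono (box f d V U).ι, Category.assoc, ha, Category.id_comp]
    apply WidePullback.hom_ext
    · intro i
      rw [Category.assoc, WidePullback.lift_π, WidePullback.lift_π_assoc, IsOpenImmersion.lift_fac]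
    · rw [Category.assoc, WidePullback.lift_base, WidePullback.lift_base_assoc,
        IsOpenImmersion.lift_fac]
  have : IsIso b := ⟨a, hba, hab⟩
  exact IsAffine.of_isIso b

/-- Chart through the orbit of a point. -/
theorem exists_box (hAF : SymProd.IsAF f) (z : SymProd.fibPow f d) {V : S.Opens}
    (hV : WidePullback.base (fun _ : Fin d => f) z ∈ V) :
    ∃ U : X.Opens, IsAffineOpen U ∧ U ≤ f ⁻¹ᵁ V ∧ z ∈ box f d V U := by
  classical
  let T : Finset X := Finset.univ.image fun i => WidePullback.π (fun _ : Fin d => f) i z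
  have hTs : ∀ x ∈ T, f x = WidePullback.base (fun _ : Fin d => f) z := by
    simp only [T, Finset.mem_image, Finset.mem_univ, true_and]
    rintro _ ⟨i, rfl⟩
    exact base_apply f d i z
  obtain ⟨U₀, hU₀, hT⟩ := hAF _ T hTs
  obtain ⟨U, hU, -, hUV, hTU⟩ := exists_isAffineOpen_le_mem hU₀ (f ⁻¹ᵁ V) T hT
    (fun x hx => by show f x ∈ V; rw [hTs x hx]; exact hV)
  exact ⟨U, hU, hUV, (mem_box f d).mpr ⟨hV, fun i =>
    hTU _ (Finset.mem_image_of_mem _ (Finset.mem_univ i))⟩⟩

end SymP31
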