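import Groth.Agent.SymP31.Basic
import Groth.Prelude.Def_SymTen

/-! # The coordinate ring of an affine chart of a fibre power is the tensor power -/

set_option autoImplicit false
universe u
open CategoryTheory CategoryTheory.Limits AlgebraicGeometry
open scoped TensorProduct

namespace SymP31

variable {X S : Scheme.{u}} (f : X ⟶ S) (d : ℕ)

theorem box_le_base (V : S.Opens) (U : X.Opens) :
    box f d V U ≤ WidePullback.base (fun _ : Fin d => f) ⁻¹ᵁ V := fun _ hz => ((mem_box f d).mp hz).1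

theorem box_le_π (V : S.Opens) (U : X.Opens) (i : Fin d) :
    box f d V U ≤ WidePullback.π (fun _ : Fin d => f) i ⁻¹ᵁ U := fun _ hz => ((mem_box f d).mp hz).2 i

/-- The `i`-th coprojection into a tensor power. -/
noncomputable abbrev sgl (R A : Type u) [CommRing R] [CommRing A] [Algebra R A] (n : ℕ) (i : Fin n) :
    A →ₐ[R] ⨂[R] _ : Fin n, A :=
  PiTensorProduct.singleAlgHom (R := R) (A := fun _ : Fin n => A) i

theorem singleAlgHom_apply' {R A : Type u} [CommRing R] [CommRing A] [Algebra R A] (n : ℕ) (i : Fin n) (a : A) :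
    (sgl R A n i) a =
      PiTensorProduct.tprod R (MonoidHom.mulSingle (fun _ : Fin n => A) i a) := rfl

theorem perm_single {R A : Type u} [CommRing R] [CommRing A] [Algebra R A] (n : ℕ) (σ : Equiv.Perm (Fin n))
    (i : Fin n) (a : A) :
    SymTen.perm R A n σ (sgl R A n i a) = sgl R A n (σ i) a := by
  rw [singleAlgHom_apply', singleAlgHom_apply', SymTen.perm_tprod]
  congr 1
  funext j
  rcases eq_or_ne j (σ i) with rfl | h
  · simp
  · have h' : σ.symm j ≠ i := fun e => h (by rw [← e, Equiv.apply_symm_apply])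
    simp [h, h']

theorem appLE_trans {P Q T : Scheme.{u}} (g : P ⟶ Q) (h : Q ⟶ T) {U : T.Opens} {V : Q.Opens}
    {W : P.Opens} (e₁ : V ≤ h ⁻¹ᵁ U) (e₂ : W ≤ g ⁻¹ᵁ V) (a : Γ(T, U)) :
    (g.appLE V W e₂).hom ((h.appLE U V e₁).hom a) =
      ((g ≫ h).appLE U W (e₂.trans (g.preimage_mono e₁))).hom a := by
  rw [← CommRingCat.comp_apply, Scheme.Hom.appLE_comp_appLE]

theorem appLE_congr_hom {P Q : Scheme.{u}} {g g' : P ⟶ Q} (h : g = g') {U : Q.Opens} {W : P.Opens}
    (e : W ≤ g ⁻¹ᵁ U) (a : Γ(Q, U)) :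
    (g.appLE U W e).hom a = (g'.appLE U W (h ▸ e)).hom a := by subst h; rfl

theorem exists_algEquiv {V : S.Opens} (hV : IsAffineOpen V) {U : X.Opens} (hU : IsAffineOpen U)
    (hle : U ≤ f ⁻¹ᵁ V) :
    letI := (f.appLE V U hle).hom.toAlgebra
    letI := ((WidePullback.base (fun _ : Fin d => f)).appLE V (box f d V U) (box_le_base f d V U)).hom.toAlgebra
    ∃ e : (⨂[Γ(S, V)] _ : Fin d, Γ(X, U)) ≃ₐ[Γ(S, V)] Γ(SymProd.fibPow f d, box f d V U),
      (∀ i a, e (sgl Γ(S, V) Γ(X, U) d i a) =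
        ((WidePullback.π (fun _ : Fin d => f) i).appLE U (box f d V U) (box_le_π f d V U i)).hom a) ∧
      ∀ (σ : Equiv.Perm (Fin d)) (hσ : box f d V U ≤ SymProd.permHom f d σ ⁻¹ᵁ box f d V U)
        (t : ⨂[Γ(S, V)] _ : Fin d, Γ(X, U)),
        ((SymProd.permHom f d σ).appLE (box f d V U) (box f d V U) hσ).hom (e t) =
          e (SymTen.perm Γ(S, V) Γ(X, U) d σ.symm t) := by
  classical
  letI := (f.appLE V U hle).hom.toAlgebra
  letI := ((WidePullback.base (fun _ : Fin d => f)).appLE V (box f d V U) (box_le_base f d V U)).hom.toAlgebra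
  let W := box f d V U
  have hW : IsAffineOpen W := isAffineOpen_box f d hV hU hle
  let φ : Fin d → (Γ(X, U) →ₐ[Γ(S, V)] Γ(SymProd.fibPow f d, W)) := fun i =>
    { toRingHom := ((WidePullback.π (fun _ : Fin d => f) i).appLE U W (box_le_π f d V U i)).hom
      commutes' := fun r => by
        show ((WidePullback.π (fun _ : Fin d => f) i).appLE U W (box_le_π f d V U i)).hom
          ((f.appLE V U hle).hom r) = ((WidePullback.base (fun _ : Fin d => f)).appLE V W _).hom r
        rw [appLE_trans, appLE_congr_hom (WidePullback.π_arrow (fun _ : Fin d => f) i)] }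
  let μ : MultilinearMap Γ(S, V) (fun _ : Fin d => Γ(X, U)) Γ(SymProd.fibPow f d, W) :=
    (MultilinearMap.mkPiAlgebra Γ(S, V) (Fin d) _).compLinearMap fun i => (φ i).toLinearMap
  let Φ : (⨂[Γ(S, V)] _ : Fin d, Γ(X, U)) →ₐ[Γ(S, V)] Γ(SymProd.fibPow f d, W) :=
    PiTensorProduct.liftAlgHom μ (by simp [μ]) (fun x y => by simp [μ, Finset.prod_mul_distrib])
  have hΦ : ∀ i a, Φ (sgl Γ(S, V) Γ(X, U) d i a) = φ i a := fun i a => by
    have e1 : Φ (sgl Γ(S, V) Γ(X, U) d i a) = μ (MonoidHom.mulSingle (fun _ : Fin d => Γ(X, U)) i a) :=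
      PiTensorProduct.lift.tprod _
    rw [e1]
    simp only [μ, MultilinearMap.compLinearMap_apply, MultilinearMap.mkPiAlgebra_apply, AlgHom.toLinearMap_apply]
    rw [Finset.prod_eq_single i (fun j _ h => by simp [h]) (fun h => absurd (Finset.mem_univ i) h)]
    simp
  let T : CommRingCat.{u} := CommRingCat.of (⨂[Γ(S, V)] _ : Fin d, Γ(X, U))
  let ΦR : T ⟶ Γ(SymProd.fibPow f d, W) := CommRingCat.ofHom Φ.toRingHom
  let sR : Fin d → (Γ(X, U) ⟶ T) := fun i =>
    CommRingCat.ofHom (sgl Γ(S, V) Γ(X, U) d i).toRingHom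
  let bR : Γ(S, V) ⟶ T := CommRingCat.ofHom (algebraMap Γ(S, V) T)
  have hsb : ∀ i, f.appLE V U hle ≫ sR i = bR := fun i => by
    ext r
    exact (sgl Γ(S, V) Γ(X, U) d i).commutes r
  let m : Spec T ⟶ SymProd.fibPow f d :=
    WidePullback.lift (Spec.map bR ≫ hV.fromSpec) (fun i => Spec.map (sR i) ≫ hU.fromSpec) (fun i => by
      rw [Category.assoc, ← hV.SpecMap_appLE_fromSpec f hU hle, ← Category.assoc, ← Spec.map_comp, hsb])
  have hsΦ : ∀ i, sR i ≫ ΦR = (WidePullback.π (fun _ : Fin d => f) i).appLE U W (box_le_π f d V U i) :=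
    fun i => by ext a; exact hΦ i a
  have hbΦ : bR ≫ ΦR = (WidePullback.base (fun _ : Fin d => f)).appLE V W (box_le_base f d V U) := by
    ext r; exact Φ.commutes r
  have hm : Spec.map ΦR ≫ m = hW.fromSpec := by
    apply WidePullback.hom_ext
    · intro i
      rw [Category.assoc, WidePullback.lift_π, ← Category.assoc, ← Spec.map_comp, hsΦ,
        IsAffineOpen.SpecMap_appLE_fromSpec]
    · rw [Category.assoc, WidePullback.lift_base, ← Category.assoc, ← Spec.map_comp, hbΦ,
        IsAffineOpen.SpecMap_appLE_fromSpec]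
  have hrange : Set.range m ⊆ Set.range hW.fromSpec := by
    rw [hW.range_fromSpec]
    rintro _ ⟨p, rfl⟩
    rw [SetLike.mem_coe, mem_box]
    refine ⟨?_, fun i => ?_⟩
    · rw [← Scheme.Hom.comp_apply, WidePullback.lift_base, Scheme.Hom.comp_apply, ← SetLike.mem_coe,
        ← hV.range_fromSpec]
      exact Set.mem_range_self _
    · rw [← Scheme.Hom.comp_apply, WidePullback.lift_π, Scheme.Hom.comp_apply, ← SetLike.mem_coe,
        ← hU.range_fromSpec]
      exact Set.mem_range_self _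
  let n := IsOpenImmersion.lift hW.fromSpec m hrange
  have hn : n ≫ hW.fromSpec = m := IsOpenImmersion.lift_fac _ _ _
  obtain ⟨ψ, hψ⟩ := Spec.map_surjective n
  have h1 : Spec.map ΦR ≫ n = 𝟙 _ := by
    rw [← cancel_mono hW.fromSpec, Category.assoc, hn, hm, Category.id_comp]
  have h1' : ψ ≫ ΦR = 𝟙 _ := Spec.map_injective (by rw [Spec.map_comp, hψ, h1, Spec.map_id])
  have hψs : ∀ i, (WidePullback.π (fun _ : Fin d => f) i).appLE U W (box_le_π f d V U i) ≫ ψ = sR i := fun i => by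
    apply Spec.map_injective
    rw [← cancel_mono hU.fromSpec, Spec.map_comp, hψ, Category.assoc, IsAffineOpen.SpecMap_appLE_fromSpec (hV := hW),
      ← Category.assoc, hn, WidePullback.lift_π]
  have hψb : (WidePullback.base (fun _ : Fin d => f)).appLE V W (box_le_base f d V U) ≫ ψ = bR := by
    apply Spec.map_injective
    rw [← cancel_mono hV.fromSpec, Spec.map_comp, hψ, Category.assoc, IsAffineOpen.SpecMap_appLE_fromSpec (hV := hW),
      ← Category.assoc, hn, WidePullback.lift_base]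
  let Ψ : Γ(SymProd.fibPow f d, W) →ₐ[Γ(S, V)] T :=
    { toRingHom := ψ.hom
      commutes' := fun r => DFunLike.congr_fun (congrArg CommRingCat.Hom.hom hψb) r }
  have hΨΦ : Ψ.comp Φ = AlgHom.id _ _ := by
    refine PiTensorProduct.algHom_ext fun i => AlgHom.ext fun a => ?_
    show ψ.hom (Φ (sgl Γ(S, V) Γ(X, U) d i a)) = sgl Γ(S, V) Γ(X, U) d i a
    rw [hΦ]
    exact DFunLike.congr_fun (congrArg CommRingCat.Hom.hom (hψs i)) a
  have hΦΨ : Φ.comp Ψ = AlgHom.id _ _ :=
    AlgHom.ext fun a => DFunLike.congr_fun (congrArg CommRingCat.Hom.hom h1') a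
  refine ⟨AlgEquiv.ofAlgHom Φ Ψ hΦΨ hΨΦ, hΦ, fun σ hσ t => ?_⟩
  let P : Γ(SymProd.fibPow f d, W) →ₐ[Γ(S, V)] Γ(SymProd.fibPow f d, W) :=
    { toRingHom := ((SymProd.permHom f d σ).appLE W W hσ).hom
      commutes' := fun r => by
        show ((SymProd.permHom f d σ).appLE W W hσ).hom
          (((WidePullback.base (fun _ : Fin d => f)).appLE V W _).hom r) =
          ((WidePullback.base (fun _ : Fin d => f)).appLE V W _).hom r
        rw [appLE_trans, appLE_congr_hom (SymProd.permHom_base f d σ)] }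
  show P (Φ t) = Φ (SymTen.perm Γ(S, V) Γ(X, U) d σ.symm t)
  suffices P.comp Φ = Φ.comp (SymTen.perm Γ(S, V) Γ(X, U) d σ.symm) from DFunLike.congr_fun this t
  refine PiTensorProduct.algHom_ext fun i => AlgHom.ext fun a => ?_
  show P (Φ (sgl Γ(S, V) Γ(X, U) d i a)) =
    Φ (SymTen.perm Γ(S, V) Γ(X, U) d σ.symm (sgl Γ(S, V) Γ(X, U) d i a))
  rw [perm_single, hΦ, hΦ]
  show ((SymProd.permHom f d σ).appLE W W hσ).hom
    (((WidePullback.π (fun _ : Fin d => f) i).appLE U W _).hom a) = _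
  rw [appLE_trans, appLE_congr_hom (SymProd.permHom_π f d σ i)]
  rfl

end SymP31
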